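import Cfsg.Agent.H644.ConjMax
import Cfsg.Agent.H649.PairInduced
import Cfsg.Agent.H648.Dict
set_option linter.all false

/-!
# The inertial quotient of a block with abelian defect group is a `p'`-group (helper641)

* `not_dvd_relIndex`: if `(P, e)` is a maximal Brauer pair with stabilizer `T = N_G(P, e)`, then `p` does
  not divide `|T : P C_G(P)|`;
* `isMaximal_of_induced`: for `P` a defect group of `B` and `c` a block of `C_G(P)` inducing `B`,
  `(P, c)` is a maximal Brauer pair of `B`;
* `isNormalSubpair_of_inducedIn`: for `P` abelian, `Q ≤ P`, and `f` the block of `C_G(Q)` induced by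
  `c` inside `C_G(Q)`, `(Q, f)` is a normal subpair of `(P, c)`;
* `eq_pairStab`.
-/

set_option autoImplicit false
set_option linter.unusedSectionVars false

open Cfsg

namespace Cfsg.Agent.H641

open Cfsg.Agent.Blocks.Local
open Cfsg.Agent.Blocks.Basic (isPBlock_nonempty isPBlock_eq_of_mem)
open Cfsg.Agent.H644

variable {p : ℕ} {M : Ideal AlgInt} [M.IsPrime] {G : Type*} [Group G] [Finite G]

/-- The central character of `e` composed with the Brauer map is invariant under the stabilizer
of `e`. -/
theorem lam_br_cj (hM : IsPModular p M) {P : Subgroup G}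
    {e : Set (IrrCharacter (Subgroup.centralizer (P : Set G)))} (he : IsPBlock M e)
    {ξ : IrrCharacter (Subgroup.centralizer (P : Set G))} (hξ : ξ ∈ e) {x : G}
    (hx : x ∈ pairStab M P e) {w : MonoidAlgebra (ResField M) G}
    (hw : IsInv (Subgroup.centralizer (P : Set G)) w) :
    lam M (ξ : Subgroup.centralizer (P : Set G) → ℂ) (br P (cj x w)) =
      lam M (ξ : Subgroup.centralizer (P : Set G) → ℂ) (br P w) := by
  have hN := mem_normalizer_centralizer hx.1
  have hU := isUnion_of_isPBlock he
  set φ := cjE x (Subgroup.centralizer (P : Set G)) (Subgroup.centralizer (P : Set G))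
    (mem_iff_conj_mem_of_mem_normalizer hN) with hφ
  have h1 : irrMap φ '' e = e := by
    apply idem_injective hM (isUnion_of_isPBlock (isPBlock_irrMap he)) hU
    apply emb_injective
    rw [hφ, emb_idem_irrMap]
    exact hx.2
  have h2 : irrMap φ ξ ∈ e := by
    rw [← h1]
    exact ⟨ξ, hξ, rfl⟩
  rw [lam_eq_of_mem he hξ h2]
  have h3 := lam_irrMap (M := M) φ ξ (x := br P w) (x' := br P (cj x w)) (isCls_br hw)
    (fun g => by
      rw [coeff_br, coeff_cj, coeff_br, hφ, coe_cjE]
      congr 1
      group)
  rw [h3]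
  exact lam_eq_of_mem he h2 hξ ▸ rfl

/-- For a maximal Brauer pair `(P, e)`, the index of `P C_G(P)` in the stabilizer is prime to
`p`. -/
theorem not_dvd_relIndex (hM : IsPModular p M) {B : Set (IrrCharacter G)} {P : Subgroup G}
    {e : Set (IrrCharacter (Subgroup.centralizer (P : Set G)))}
    (hmax : IsMaximalBrauerPair p M B P e) :
    ¬ p ∣ (P ⊔ Subgroup.centralizer (P : Set G)).relIndex (pairStab M P e) := by
  have : Fact p.Prime := ⟨hM.1⟩
  have := charP_resField hM
  obtain ⟨ξ, hξ⟩ := isPBlock_nonempty hmax.1.1.2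
  obtain ⟨R, g, y, h1, hRT, hy, h2⟩ := exists_normal_extension hM hmax.1.1 hξ
  have hR : R = P := hmax.2 R g ((isBrauerPairOf_iff_of_isNormalSubpair hM h1).2 hmax.1)
      (subpairLE_of_isNormalSubpair h1)
  subst hR
  set K := R ⊔ Subgroup.centralizer (R : Set G) with hK
  set T := pairStab M R e with hT
  have hRK : R ≤ K := le_sup_left
  have hKT : K ≤ T := sup_le (le_pairStab R e) (centralizer_le_pairStab R e)
  have hyi : IsInv R (MonoidAlgebra.single y (1 : ResField M)) := isInv_single fun u hu => by
    rw [Subgroup.mem_centralizer_singleton_iff]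
    exact (Subgroup.mem_centralizer_iff.1 hy) u hu
  set w := tr R K (MonoidAlgebra.single y (1 : ResField M)) with hw
  have hwK : IsInv K w := isInv_tr hRK hyi
  have hwC : IsInv (Subgroup.centralizer (R : Set G)) w := isInv_mono le_sup_right hwK
  intro hdvd
  apply h2
  rw [← tr_trans hRK hKT hyi, ← hw]
  classical
  have := Fintype.ofFinite (G ⧸ K)
  rw [tr_def, map_sum, map_sum]
  have h3 : ∀ q : G ⧸ K, lam M (ξ : Subgroup.centralizer (R : Set G) → ℂ)
      (br R (if inCos K T q then cj (qout q) w else 0)) =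
      if inCos K T q then lam M (ξ : Subgroup.centralizer (R : Set G) → ℂ) (br R w) else 0 := by
    intro q
    split_ifs with hq
    · exact lam_br_cj hM hmax.1.1.2 hξ hq hwC
    · rw [map_zero, map_zero]
  rw [Finset.sum_congr rfl fun q _ => h3 q, ← Finset.sum_filter, Finset.sum_const,
    card_inCos hKT, nsmul_eq_mul, (CharP.cast_eq_zero_iff (ResField M) p _).2 hdvd, zero_mul]

/-- The stabilizer given by its elements. -/
theorem eq_pairStab (hM : IsPModular p M) {P : Subgroup G}
    {e : Set (IrrCharacter (Subgroup.centralizer (P : Set G)))} (he : IsPBlock M e)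
    {T : Subgroup G} (hT : ∀ g : G, g ∈ T ↔ (g ∈ Subgroup.normalizer (P : Set G) ∧
      StabilizesBlock (Subgroup.centralizer (P : Set G)) e g)) : T = pairStab M P e := by
  ext x
  rw [hT, mem_pairStab_iff_stabilizesBlock hM he]

/-- A defect group is a `p`-group. -/
theorem isPGroup_of_isDefectGroup {B : Set (IrrCharacter G)} {P : Subgroup G}
    (hD : IsDefectGroup p M B P) : IsPGroup p P := by
  obtain ⟨g, -, S, rfl⟩ := hD
  exact S.isPGroup'.map _

/-- For a defect group `P` of `B` and a block `c` of `C_G(P)` inducing `B`, the pair `(P, c)` is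
a maximal Brauer pair of `B`. -/
theorem isMaximal_of_induced (hM : IsPModular p M) {B : Set (IrrCharacter G)} {P : Subgroup G}
    (hD : IsDefectGroup p M B P) {c : Set (IrrCharacter (Subgroup.centralizer (P : Set G)))}
    (hc : IsInducedBlock M (Subgroup.centralizer (P : Set G)) c B) :
    IsMaximalBrauerPair p M B P c :=
  haveI : Fact p.Prime := ⟨hM.1⟩
  isMaximalBrauerPair_of_isDefectGroup hM
    ((Cfsg.Agent.H649.isBrauerPairOf_iff_isInducedBlock hM hc.2.1
      (isPGroup_of_isDefectGroup hD) hc.1).2 hc) hD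

/-- For `P` abelian and `Q ≤ P`, block induction from `C_G(P)` to `C_G(Q)` gives a normal
subpair. -/
theorem isNormalSubpair_of_inducedIn (hM : IsPModular p M) {P Q : Subgroup G}
    (hP : IsPGroup p P) (hab : ∀ x ∈ P, ∀ y ∈ P, x * y = y * x) (hQP : Q ≤ P)
    {c : Set (IrrCharacter (Subgroup.centralizer (P : Set G)))}
    {f : Set (IrrCharacter (Subgroup.centralizer (Q : Set G)))}
    (hf : IsInducedBlockIn M (Subgroup.centralizer (Q : Set G))
      (Subgroup.centralizer (P : Set G)) c f) : IsNormalSubpair p M Q f P c := by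
  have hPC : P ≤ Subgroup.centralizer (Q : Set G) := fun x hx =>
    Subgroup.mem_centralizer_iff.2 fun y hy => hab y (hQP hy) x hx
  have h := (Cfsg.Agent.H648.Dict.isInducedBlockIn_iff (centralizer_mono hQP)).1 hf
  obtain ⟨χ, hχ⟩ := isPBlock_nonempty h.2.1
  refine (isNormalSubpair_iff hM).2 ⟨⟨isPGroup_of_le hP hQP, h.2.1⟩, ⟨hP, h.1⟩, hQP,
    hPC.trans (centralizer_le_normalizer Q),
    isInv_mono hPC (isInv_emb (isCls_idem f)), fun ξ hξ => ?_⟩
  have h1 := h.2.2 ξ hξ χ hχ (idem M f) (isCls_idem f)
  rw [lam_idem_of_mem hM (isUnion_of_isPBlock h.2.1) hχ] at h1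
  exact h1

end Cfsg.Agent.H641
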